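import Groth.Prelude.Def_TautSec2
import Groth.Prelude.Def_ShStab
import Groth.Prelude.Def_FGA
import Groth.Agent.S11295
import Groth.Agent.S1535
import Groth.Agent.S0558
import Groth.Agent.CalgB.ProjImm
import Groth.Agent.CalgB.ProjField
import Groth.Agent.Ega1.GenPts

/-!
# The Hilbert scheme of two points of a smooth projective surface

`K888.HilbReg.regular`: for a smooth proper integral surface `X` with an ample module over an
algebraically closed field, a proper scheme representing the Hilbert functor of two points is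
integral, regular and of dimension four.
-/

set_option autoImplicit false
set_option backward.isDefEq.respectTransparency.types false
universe u

open CategoryTheory CategoryTheory.Limits AlgebraicGeometry Polynomial

namespace K888.HilbReg

open Groth.Agent

variable (k : Type u) [Field k] [IsAlgClosed k] (X : Scheme.{u})
  [X.Over (Spec (CommRingCat.of k))] [AlgebraicGeometry.IsIntegral X]
  [Smooth (X ↘ Spec (CommRingCat.of k))] [IsProper (X ↘ Spec (CommRingCat.of k))]
  (hdim : topologicalKrullDim X = 2) (Hl : X.Modules) (hHl : CohB1.IsAmple Hl)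
  (Hs : Scheme.{u}) [Hs.Over (Spec (CommRingCat.of k))]
  [IsProper (Hs ↘ Spec (CommRingCat.of k))]
  (n : ℕ)
  (Z : HilbD.Obj (X ↘ Spec (CommRingCat.of k)) n
    (CategoryTheory.Over.mk (Hs ↘ Spec (CommRingCat.of k))))
  (hU : HilbD.IsUniversal (X ↘ Spec (CommRingCat.of k)) n
    (CategoryTheory.Over.mk (Hs ↘ Spec (CommRingCat.of k))) Z)

include hdim hHl hU in
/-- The Hilbert scheme of `n` points of a smooth projective surface is integral, regular, of
dimension `2 * n`. -/
theorem regular_of_points : IsIntegral Hs ∧ topologicalKrullDim Hs = (2 * n : ℕ) ∧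
    ∀ x : Hs, IsRegularLocalRing (Hs.presheaf.stalk x) := by
  have hproj : Neron.IsProjectiveOver k (Over.mk (X ↘ Spec (CommRingCat.of k))) := by
    obtain ⟨n, i, hi, hiq⟩ := (CalgB.ProjImm.closedImmersion_iff
      (CalgB.ProjField.exists_isAmple_of_isAffine _) (X ↘ Spec (CommRingCat.of k))).2
        ⟨inferInstance, Hl, hHl⟩
    exact ⟨n, i, hi, hiq⟩
  haveI : ConnectedSpace (Over.mk (X ↘ Spec (CommRingCat.of k))).left :=
    inferInstanceAs (ConnectedSpace X)
  obtain ⟨h1, h2, h3⟩ := Groth.Agent.S11295.result k (Over.mk (X ↘ Spec (CommRingCat.of k))) hproj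
    (fun y => Groth.Agent.S1535.result k X y) hdim n
    (CategoryTheory.Over.mk (Hs ↘ Spec (CommRingCat.of k))) Z hU
  haveI : ConnectedSpace Hs := h1
  haveI : LocallyOfFiniteType (Hs ↘ Spec (CommRingCat.of k)) := inferInstance
  haveI : IsLocallyNoetherian Hs :=
    LocallyOfFiniteType.isLocallyNoetherian (Hs ↘ Spec (CommRingCat.of k))
  have hreg : ∀ x : Hs, IsRegularLocalRing (Hs.presheaf.stalk x) := fun x => h2 x
  refine ⟨?_, h3, hreg⟩
  refine (Ega1.GenPts.isIntegral_iff Hs).2 ⟨inferInstance, fun x => ?_⟩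
  haveI := hreg x
  exact Groth.Agent.S0558.result _

end K888.HilbReg

variable (k : Type u) [Field k] [IsAlgClosed k] (X : Scheme.{u})
  [X.Over (Spec (CommRingCat.of k))] [AlgebraicGeometry.IsIntegral X]
  [Smooth (X ↘ Spec (CommRingCat.of k))] [IsProper (X ↘ Spec (CommRingCat.of k))]
  (hdim : topologicalKrullDim X = 2) (Hl : X.Modules) (hHl : CohB1.IsAmple Hl)
  (Hs : Scheme.{u}) [Hs.Over (Spec (CommRingCat.of k))]
  [IsProper (Hs ↘ Spec (CommRingCat.of k))]
  (Z : HilbD.Obj (X ↘ Spec (CommRingCat.of k)) 2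
    (CategoryTheory.Over.mk (Hs ↘ Spec (CommRingCat.of k))))
  (hU : HilbD.IsUniversal (X ↘ Spec (CommRingCat.of k)) 2
    (CategoryTheory.Over.mk (Hs ↘ Spec (CommRingCat.of k))) Z)

include hdim hHl hU in
theorem K888.HilbReg.regular : IsIntegral Hs ∧ topologicalKrullDim Hs = 4 ∧
    ∀ x : Hs, IsRegularLocalRing (Hs.presheaf.stalk x) := by
  obtain ⟨h1, h2, h3⟩ := K888.HilbReg.regular_of_points k X hdim Hl hHl Hs 2 Z hU
  exact ⟨h1, by simpa using h2, h3⟩
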